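import Mathlib
import Cfsg.Agent.Lib.Helper51.TIH.Defs

/-!
# TIH (S4118), package [EXT]: `O` normal solvable, `H` solvable and `G' ≤ O ⊔ H` imply
`G` solvable.
-/

set_option autoImplicit false

namespace Cfsg.Agent.Lib.Helper67.TIH

open Cfsg.Agent.Lib.Helper51.TIH

universe u

/-- `O ⊔ H` is solvable when `O` is normal solvable and `H` is solvable. -/
theorem isSolvable_sup {G : Type u} [Group G] (H O : Subgroup G) (hO : O.Normal)
    (hOs : Group.IsSolvable O) (hHs : Group.IsSolvable H) :
    Group.IsSolvable (O ⊔ H : Subgroup G) := by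
  have := hO
  have := hOs
  have := hHs
  -- the image of `H` in `G ⧸ O`
  have h1 : Group.IsSolvable (H.map (QuotientGroup.mk' O)) :=
    Group.isSolvable_of_surjective ((QuotientGroup.mk' O).subgroupMap_surjective H)
  have hmap : (O ⊔ H).map (QuotientGroup.mk' O) = H.map (QuotientGroup.mk' O) := by
    rw [Subgroup.map_sup]
    have : O.map (QuotientGroup.mk' O) = ⊥ := by
      rw [← le_bot_iff]
      rintro _ ⟨o, ho, rfl⟩
      rw [Subgroup.mem_bot]
      exact (QuotientGroup.eq_one_iff o).mpr ho
    rw [this, bot_sup_eq]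
  have h2 : Group.IsSolvable ((O ⊔ H).map (QuotientGroup.mk' O)) := by
    rw [hmap]; exact h1
  refine Group.isSolvable_of_ker_le_range
    (Subgroup.inclusion (le_sup_left : O ≤ O ⊔ H))
    ((QuotientGroup.mk' O).subgroupMap (O ⊔ H)) ?_
  intro k hk
  rw [MonoidHom.mem_ker] at hk
  have hk' : (QuotientGroup.mk' O) (k : G) = 1 := by
    have := congrArg Subtype.val hk
    simpa using this
  have hkO : (k : G) ∈ O := (QuotientGroup.eq_one_iff (k : G)).mp hk'
  exact ⟨⟨(k : G), hkO⟩, Subtype.ext rfl⟩

theorem pkgExt : PkgExt.{u} := by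
  intro G _ _ H O hO hOs hHs hcomm
  have h1 : Group.IsSolvable (O ⊔ H : Subgroup G) := isSolvable_sup H O hO hOs hHs
  have h2 : Group.IsSolvable (commutator G) :=
    Group.isSolvable_of_isSolvable_injective (Subgroup.inclusion_injective hcomm)
  exact Group.isSolvable_of_ker_le_range (commutator G).subtype
    (Abelianization.of (G := G)) (by rw [Abelianization.ker_of]; simp)

end Cfsg.Agent.Lib.Helper67.TIH
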