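import Mathlib
import Cfsg.Agent.Lib.Helper51.TIH.Defs

/-!
# TIH (S4118), package [NORMAL]: `O` normal and `O ⊔ N_G(H) = ⊤` imply `O ⊔ H` normal.
-/

set_option autoImplicit false

namespace Cfsg.Agent.Lib.Helper67.TIH

open Cfsg.Agent.Lib.Helper51.TIH

universe u

theorem pkgNormal : PkgNormal.{u} := by
  intro G _ _ H O hO htop
  have key : ∀ n ∈ Subgroup.normalizer (H : Set G), ∀ x ∈ O ⊔ H, n * x * n⁻¹ ∈ O ⊔ H := by
    intro n hn
    have hle : O ⊔ H ≤ (O ⊔ H).comap (MulAut.conj n).toMonoidHom := by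
      apply sup_le
      · intro o ho
        rw [Subgroup.mem_comap]
        show n * o * n⁻¹ ∈ O ⊔ H
        exact Subgroup.mem_sup_left (hO.conj_mem o ho n)
      · intro h hh
        rw [Subgroup.mem_comap]
        show n * h * n⁻¹ ∈ O ⊔ H
        exact Subgroup.mem_sup_right ((Subgroup.mem_normalizer_iff.mp hn h).mp hh)
    intro x hx
    exact hle hx
  have hOM : O ≤ Subgroup.normalizer ((O ⊔ H : Subgroup G) : Set G) :=
    le_sup_left.trans Subgroup.le_normalizer
  have hNM : Subgroup.normalizer (H : Set G) ≤ Subgroup.normalizer ((O ⊔ H : Subgroup G) : Set G) := by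
    intro n hn
    rw [Subgroup.mem_normalizer_iff]
    intro x
    constructor
    · exact key n hn x
    · intro hx
      have h1 := key n⁻¹ (Subgroup.inv_mem _ hn) _ hx
      have e : n⁻¹ * (n * x * n⁻¹) * n⁻¹⁻¹ = x := by group
      rw [e] at h1
      exact h1
  have hM : ∀ g : G, g ∈ Subgroup.normalizer ((O ⊔ H : Subgroup G) : Set G) := by
    intro g
    have : g ∈ O ⊔ Subgroup.normalizer (H : Set G) := by rw [htop]; exact Subgroup.mem_top g
    exact (sup_le hOM hNM) this
  exact ⟨fun x hx g => (Subgroup.mem_normalizer_iff.mp (hM g) x).mp hx⟩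

end Cfsg.Agent.Lib.Helper67.TIH
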